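import Cfsg.Agent.H509.CycBlock
import Cfsg.Agent.Classification.QDW.FuCop

/-!
# The V4 trick (helper635, S3830)

`exists_not_solvable` : cyclic Sylow `p`-subgroups, `p` odd, `x` of order `p` normalises no nontrivial `2`-subgroup,
`s ≠ t` commuting conjugate involutions: some `⟨x, t ^ g⟩` is not solvable.
-/

set_option autoImplicit false
set_option linter.unusedSectionVars false

namespace Cfsg.Agent.H635.Inv

open Cfsg Subgroup Cfsg.Agent.H29.CyclicPairs Cfsg.Agent.H509.CycBlock

universe u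

/-- `x` normalises no nontrivial `2`-subgroup -/
def NoTwo {G : Type*} [Group G] (x : G) : Prop :=
  ∀ R : Subgroup G, IsPGroup 2 R → (∀ r ∈ R, x * r * x⁻¹ ∈ R) → R = ⊥

variable {G : Type u} [Group G] [Finite G] {p : ℕ} [hp : Fact p.Prime]

theorem NoTwo.sub {x : G} (h : NoTwo x) (H : Subgroup G) (hx : x ∈ H) : NoTwo (⟨x, hx⟩ : H) := by
  intro R hR hxR
  have h1 := h (R.map H.subtype) (hR.map _) (by
    rintro _ ⟨r, hr, rfl⟩
    exact ⟨_, hxR r hr, rfl⟩)
  exact (map_eq_bot_iff_of_injective _ H.subtype_injective).1 h1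

theorem zpowers_isPGroup {x : G} (hx : orderOf x = p) : IsPGroup p (zpowers x) :=
  IsPGroup.of_card (n := 1) (by rw [Nat.card_zpowers, hx, pow_one])

theorem conj_mem_zpowers {x : G} {K : Subgroup G} (hn : x ∈ normalizer (K : Set G)) : ∀ b ∈ zpowers x, ∀ u ∈ K,
    b * u * b⁻¹ ∈ K := by
  have h1 : zpowers x ≤ normalizer (K : Set G) := zpowers_le.2 hn
  intro b hb u hu
  exact (mem_normalizer_iff.1 (h1 hb) u).1 hu

theorem odd_of_inv {x : G} (hx : orderOf x = p) (h : NoTwo x) {K : Subgroup G} (hK : (Nat.card K).Coprime p)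
    (hn : x ∈ normalizer (K : Set G)) : Odd (Nat.card K) := by
  have : Fact (Nat.Prime 2) := ⟨Nat.prime_two⟩
  obtain ⟨R, -, hR, hi, hxR⟩ := Cfsg.Agent.Classification.QDW.FuCop.exists_inv (zpowers_isPGroup hx)
    ((Nat.Prime.coprime_iff_not_dvd hp.out).1 hK.symm) (conj_mem_zpowers hn) 2
  have h1 := h R hR (hxR x (mem_zpowers x))
  rw [h1, relIndex_bot_left] at hi
  rwa [← Nat.not_even_iff_odd, even_iff_two_dvd]

/-- An involution is not trivial modulo the core: it inverts `x`. -/
theorem inverts (hC : Cyc p G) (hs : IsPSolvable p G) (hp2 : p ≠ 2) {x : G} (hx : orderOf x = p) (hN : NoTwo x) {v : G}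
    (hv : orderOf v = 2) :
    ∃ k ∈ pPrimeCore p G, (k * v) * x * (k * v)⁻¹ = x⁻¹ := by
  have hKn : (pPrimeCore p G).Normal := Lib.Cores.pPrimeCore_normal p
  have hcop := Lib.Cores.pPrimeCore_coprime (G := G) p
  obtain ⟨k, hk, i, hi⟩ := exists_normalizing hC hs hx v
  have hv2 : v * v = 1 := by rw [← pow_two, ← hv, pow_orderOf_eq_one]
  have hvi : v⁻¹ = v := inv_eq_of_mul_eq_one_left hv2
  -- `k v` squared is in the core, so `x ^ (i * i) = x` modulo the core
  set π := QuotientGroup.mk' (pPrimeCore p G) with hπ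
  have hπk : π k = 1 := (QuotientGroup.eq_one_iff _).2 hk
  have h1 : π v * π x * (π v)⁻¹ = π x ^ i := by
    have := congrArg π hi
    rwa [map_mul, map_mul, map_inv, map_mul, hπk, one_mul, map_zpow] at this
  have hvv : π v * π v = 1 := by rw [← map_mul, hv2, map_one]
  have h2 : π x ^ (i * i) = π x := by
    have h3 : π v * (π v * π x * (π v)⁻¹) * (π v)⁻¹ = π x := by
      have : (π v)⁻¹ = π v := inv_eq_of_mul_eq_one_left hvv
      rw [this]
      calc π v * (π v * π x * π v) * π v = (π v * π v) * π x * (π v * π v) := by group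
        _ = π x := by rw [hvv, one_mul, mul_one]
    rw [zpow_mul, ← h1, conj_zpow, ← h1]
    exact h3
  have hxp : x ^ (p : ℤ) = 1 := by rw [zpow_natCast, ← hx, pow_orderOf_eq_one]
  have hmem : ∀ j : ℤ, x ^ j ∈ pPrimeCore p G → (p : ℤ) ∣ j := by
    intro j hj
    have h3 : orderOf (x ^ j) ∣ Nat.card (pPrimeCore p G) := Subgroup.orderOf_dvd_natCard _ hj
    have h4 : orderOf (x ^ j) ∣ p := orderOf_dvd_of_pow_eq_one (by
      rw [← zpow_natCast, ← zpow_mul, mul_comm, zpow_mul, hxp, one_zpow])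
    have h5 : orderOf (x ^ j) = 1 := by
      have := Nat.dvd_gcd h3 h4
      rw [hcop] at this
      exact Nat.dvd_one.1 this
    have h6 : x ^ j = 1 := orderOf_eq_one_iff.1 h5
    have h7 := orderOf_dvd_iff_zpow_eq_one.2 h6
    rwa [hx] at h7
  have h3 : (p : ℤ) ∣ i * i - 1 := by
    apply hmem
    have h4 : π (x ^ (i * i - 1)) = 1 := by
      rw [map_zpow, zpow_sub, h2, zpow_one, mul_inv_cancel]
    exact (QuotientGroup.eq_one_iff _).1 h4
  have h4 : (p : ℤ) ∣ (i - 1) * (i + 1) := by
    have : (i - 1) * (i + 1) = i * i - 1 := by ring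
    rwa [this]
  rcases (Nat.prime_iff_prime_int.1 hp.out).dvd_or_dvd h4 with h5 | h5
  · -- `v` centralises `x` modulo the core
    exfalso
    have h6 : π x ^ i = π x := by
      obtain ⟨c, hc⟩ := h5
      have h7 : i = p * c + 1 := by omega
      rw [h7, zpow_add, zpow_mul, ← map_zpow, hxp, map_one, one_zpow, one_mul, zpow_one]
    rw [h6] at h1
    have h7 : v⁻¹ * (x * v * x⁻¹) ∈ pPrimeCore p G := by
      rw [← QuotientGroup.eq_one_iff (N := pPrimeCore p G)]
      change π (v⁻¹ * (x * v * x⁻¹)) = 1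
      rw [map_mul, map_mul, map_mul, map_inv, map_inv]
      have h8 : π v * π x = π x * π v := by
        calc π v * π x = (π v * π x * (π v)⁻¹) * π v := by group
          _ = _ := by rw [h1]
      rw [← h8]
      group
    have hvc : (orderOf v).Coprime p := by
      rw [hv]
      exact (Nat.coprime_primes Nat.prime_two hp.out).2 (Ne.symm hp2)
    obtain ⟨K, hK, hvK, hxK⟩ := exists_core hvc h7
    have h8 := odd_of_inv hx hN hK hxK
    have h9 : orderOf v ∣ Nat.card K := Subgroup.orderOf_dvd_natCard _ hvK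
    rw [hv] at h9
    exact (Nat.not_even_iff_odd.2 h8) (even_iff_two_dvd.2 h9)
  · refine ⟨k, hk, ?_⟩
    rw [hi]
    obtain ⟨c, hc⟩ := h5
    have h7 : i = p * c + (-1) := by omega
    rw [h7, zpow_add, zpow_mul, hxp, one_zpow, one_mul, zpow_neg_one]

theorem ne_inv (hp2 : p ≠ 2) {x : G} (hx : orderOf x = p) : x⁻¹ ≠ x := by
  intro h
  have h1 : x ^ 2 = 1 := by rw [pow_two]; exact mul_eq_one_iff_eq_inv.2 h.symm
  have h2 := orderOf_dvd_of_pow_eq_one h1
  rw [hx] at h2
  exact hp2 ((Nat.prime_dvd_prime_iff_eq hp.out Nat.prime_two).1 h2)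

/-- no four-group -/
theorem no_four (hC : Cyc p G) (hs : IsPSolvable p G) (hp2 : p ≠ 2) {x : G} (hx : orderOf x = p) (hN : NoTwo x)
    {s t : G} (hso : orderOf s = 2) (hto : orderOf t = 2) (hne : s ≠ t) (hc : s * t = t * s) : False := by
  have hKn : (pPrimeCore p G).Normal := Lib.Cores.pPrimeCore_normal p
  have hcop := Lib.Cores.pPrimeCore_coprime (G := G) p
  set π := QuotientGroup.mk' (pPrimeCore p G) with hπ
  have key : ∀ v : G, orderOf v = 2 → π v * π x * (π v)⁻¹ = (π x)⁻¹ := by
    intro v hv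
    obtain ⟨k, hk, h1⟩ := inverts hC hs hp2 hx hN hv
    have hπk : π k = 1 := (QuotientGroup.eq_one_iff _).2 hk
    have := congrArg π h1
    rwa [map_mul, map_mul, map_inv, map_mul, hπk, one_mul, map_inv] at this
  have hs2 : s * s = 1 := by rw [← pow_two, ← hso, pow_orderOf_eq_one]
  have ht2 : t * t = 1 := by rw [← pow_two, ← hto, pow_orderOf_eq_one]
  have hst : orderOf (s * t) = 2 := by
    have : Fact (Nat.Prime 2) := ⟨Nat.prime_two⟩
    refine orderOf_eq_prime ?_ ?_
    · rw [pow_two]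
      calc s * t * (s * t) = s * (t * s) * t := by group
        _ = s * (s * t) * t := by rw [hc]
        _ = (s * s) * (t * t) := by group
        _ = 1 := by rw [hs2, ht2, one_mul]
    · intro h1
      apply hne
      have h2 : s = t⁻¹ := eq_inv_of_mul_eq_one_left h1
      rw [h2]
      exact inv_eq_of_mul_eq_one_left ht2
  have h1 := key s hso
  have h2 := key t hto
  have h3 := key _ hst
  rw [map_mul] at h3
  have h4 : π s * (π t * π x * (π t)⁻¹) * (π s)⁻¹ = (π x)⁻¹ := by
    rw [← h3]; group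
  rw [h2] at h4
  have h5 : π s * (π x)⁻¹ * (π s)⁻¹ = (π s * π x * (π s)⁻¹)⁻¹ := by group
  rw [h5, h1, inv_inv] at h4
  -- `x ^ 2` is in the core
  have h6 : π (x ^ 2) = 1 := by
    rw [map_pow, pow_two]
    exact mul_eq_one_iff_eq_inv.2 h4
  have h7 : x ^ 2 ∈ pPrimeCore p G := (QuotientGroup.eq_one_iff _).1 h6
  have h8 : orderOf (x ^ 2) ∣ Nat.card (pPrimeCore p G) := Subgroup.orderOf_dvd_natCard _ h7
  have h9 : orderOf (x ^ 2) = p := by
    rw [Nat.Coprime.orderOf_pow (by rw [hx]; exact (Nat.coprime_primes hp.out Nat.prime_two).2 hp2), hx]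
  rw [h9] at h8
  exact (Nat.Prime.coprime_iff_not_dvd hp.out).1 hcop.symm h8

/-- two involutions with a product of odd order are conjugate -/
theorem exists_conj_of_odd {t y : G} (ht : t * t = 1) (hy : y * y = 1) (ho : Odd (orderOf (y * t))) :
    ∃ g : G, g * t * g⁻¹ = y := by
  obtain ⟨k, hk⟩ := ho
  have hti : t⁻¹ = t := inv_eq_of_mul_eq_one_left ht
  have hyi : y⁻¹ = y := inv_eq_of_mul_eq_one_left hy
  have hinv : (y * t)⁻¹ = t * y := by rw [mul_inv_rev, hti, hyi]
  have hcj : ∀ n : ℕ, t * (y * t) ^ n = (t * y) ^ n * t := by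
    intro n
    induction n with
    | zero => simp
    | succ n ih =>
      rw [pow_succ, ← mul_assoc, ih, pow_succ]
      group
  have h1 : (y * t) ^ (k + k + 1) = 1 := by
    have h2 : k + k + 1 = orderOf (y * t) := by omega
    rw [h2, pow_orderOf_eq_one]
  refine ⟨(t * y) ^ k, ?_⟩
  -- `(t y)^k t (t y)^{-k} = t (y t)^k (y t)^k = t (y t)^{2k} = t (y t)^{-1} = t t y`
  have h3 : ((t * y) ^ k)⁻¹ = (y * t) ^ k := by
    rw [← hinv, inv_pow, inv_inv]
  rw [h3]
  have h4 : (t * y) ^ k * t * (y * t) ^ k = t * (y * t) ^ (k + k) := by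
    rw [← hcj k, pow_add]; group
  rw [h4]
  have h5 : (y * t) ^ (k + k) = t * y := by
    have h6 : (y * t) ^ (k + k) * (y * t) = 1 := by rw [← pow_succ]; exact h1
    rw [← hinv]
    exact eq_inv_of_mul_eq_one_left h6
  rw [h5, ← mul_assoc, ht, one_mul]

/-- In a `p`-solvable group, an involution inverting `x`, conjugate to a given one. -/
theorem exists_inverting (hC : Cyc p G) (hs : IsPSolvable p G) (hp2 : p ≠ 2) {x : G} (hx : orderOf x = p) (hN : NoTwo x)
    {y : G} (hy : orderOf y = 2) : ∃ g : G, (g * y * g⁻¹) * x * (g * y * g⁻¹)⁻¹ = x⁻¹ := by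
  have hKn : (pPrimeCore p G).Normal := Lib.Cores.pPrimeCore_normal p
  have hcop := Lib.Cores.pPrimeCore_coprime (G := G) p
  obtain ⟨k, hk, h1⟩ := inverts hC hs hp2 hx hN hy
  have hy2 : y * y = 1 := by rw [← pow_two, ← hy, pow_orderOf_eq_one]
  have hyi : y⁻¹ = y := inv_eq_of_mul_eq_one_left hy2
  have hodd : Odd (Nat.card (pPrimeCore p G)) := odd_of_inv hx hN hcop (by
    rw [mem_normalizer_iff]
    intro w
    exact ⟨fun hw => hKn.conj_mem w hw x, fun hw => by
      have := hKn.conj_mem _ hw x⁻¹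
      simpa [mul_assoc] using this⟩)
  set u := k * y with hu
  have hu2 : u * u ∈ pPrimeCore p G := by
    have h2 : u * u = k * (y * k * y⁻¹) * (y * y) := by rw [hu]; group
    rw [h2, hy2, mul_one]
    exact mul_mem hk (hKn.conj_mem k hk y)
  have ho : Odd (orderOf (u * u)) := by
    have h3 : orderOf (u * u) ∣ Nat.card (pPrimeCore p G) := Subgroup.orderOf_dvd_natCard _ hu2
    exact Odd.of_dvd_nat hodd h3
  obtain ⟨m, hm⟩ := ho
  set n := orderOf (u * u) with hn
  set t := u ^ n with ht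
  have ht2 : t * t = 1 := by
    rw [ht, ← (Commute.refl u).mul_pow, hn, pow_orderOf_eq_one]
  -- `t` inverts `x`
  have hinv : ∀ j : ℕ, u ^ (2 * j + 1) * x * (u ^ (2 * j + 1))⁻¹ = x⁻¹ := by
    intro j
    induction j with
    | zero => simpa using h1
    | succ j ih =>
      have h3 : u ^ (2 * (j + 1) + 1) = u * u * u ^ (2 * j + 1) := by
        rw [show 2 * (j + 1) + 1 = 2 + (2 * j + 1) by ring, pow_add, pow_two]
      rw [h3]
      have h4 : u * x⁻¹ * u⁻¹ = x := by
        have : u * x⁻¹ * u⁻¹ = (u * x * u⁻¹)⁻¹ := by group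
        rw [this, h1, inv_inv]
      calc u * u * u ^ (2 * j + 1) * x * (u * u * u ^ (2 * j + 1))⁻¹
          = u * (u * (u ^ (2 * j + 1) * x * (u ^ (2 * j + 1))⁻¹) * u⁻¹) * u⁻¹ := by group
        _ = x⁻¹ := by rw [ih, h4, h1]
  have htx : t * x * t⁻¹ = x⁻¹ := by
    have := hinv m
    rw [← hm] at this
    exact this
  -- `y t` is in the core
  have hyt : y * t ∈ pPrimeCore p G := by
    have h3 : ∀ j : ℕ, y * u ^ (2 * j + 1) ∈ pPrimeCore p G := by
      intro j
      induction j with
      | zero =>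
        have h4 : y * u ^ (2 * 0 + 1) = (y * k * y⁻¹) * (y * y) := by rw [hu]; group
        rw [h4, hy2, mul_one]
        exact hKn.conj_mem k hk y
      | succ j ih =>
        have h4 : y * u ^ (2 * (j + 1) + 1) = (y * u ^ (2 * j + 1)) * (u * u) := by
          rw [show 2 * (j + 1) + 1 = (2 * j + 1) + 2 by ring, pow_add, pow_two]
          group
        rw [h4]
        exact mul_mem ih hu2
    have := h3 m
    rw [← hm] at this
    exact this
  have hyo : Odd (orderOf (y * t)) := by
    have h3 : orderOf (y * t) ∣ Nat.card (pPrimeCore p G) := Subgroup.orderOf_dvd_natCard _ hyt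
    exact Odd.of_dvd_nat hodd h3
  have hty : Odd (orderOf (t * y)) := by
    have h3 : t * y = y⁻¹ * (y * t) * y := by group
    rw [h3]
    have h4 : orderOf (y⁻¹ * (y * t) * y) = orderOf (y * t) := by
      have := orderOf_injective (MulAut.conj y⁻¹).toMonoidHom (MulAut.conj y⁻¹).injective (y * t)
      simpa using this
    rw [h4]; exact hyo
  obtain ⟨g, hg⟩ := exists_conj_of_odd hy2 ht2 hty
  exact ⟨g, by rw [hg]; exact htx⟩

/-- **The V4 trick.** -/
theorem exists_not_solvable (hC : Cyc p G) (hp2 : p ≠ 2) {x : G} (hx : orderOf x = p) (hN : NoTwo x)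
    {s t : G} (ht : orderOf t = 2) (hts : ∃ g : G, g * t * g⁻¹ = s) (hne : s ≠ t) (hc : s * t = t * s) :
    ∃ g : G, ¬ Group.IsSolvable ↥(closure ({x, g * t * g⁻¹} : Set G)) := by
  by_contra hcon
  push Not at hcon
  -- an involution conjugate to `t` inverting `x`
  obtain ⟨g, hg⟩ : ∃ g : G, (g * t * g⁻¹) * x * (g * t * g⁻¹)⁻¹ = x⁻¹ := by
    set T := closure ({x, (1 : G) * t * (1 : G)⁻¹} : Set G) with hT
    have hxT : x ∈ T := Subgroup.subset_closure (Set.mem_insert _ _)
    have htT : t ∈ T := by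
      have h1 : (1 : G) * t * (1 : G)⁻¹ ∈ T := Subgroup.subset_closure (Set.mem_insert_of_mem _ rfl)
      simpa using h1
    have hsT := hcon 1
    have : Group.IsSolvable ↥T := hsT
    obtain ⟨g, hg⟩ := exists_inverting (G := ↥T) (hC.of_injective T.subtype T.subtype_injective)
      (Lib.PSolvable.IsPSolvable_of_solvable p) hp2 (x := ⟨x, hxT⟩) (by rw [Subgroup.orderOf_mk]; exact hx)
      (hN.sub T hxT) (y := ⟨t, htT⟩) (by rw [Subgroup.orderOf_mk]; exact ht)
    exact ⟨g, congrArg Subtype.val hg⟩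
  set t' := g * t * g⁻¹ with ht'
  set s' := g * s * g⁻¹ with hs'
  obtain ⟨a, ha⟩ := hts
  have hs'' : s' = (g * a) * t * (g * a)⁻¹ := by rw [hs', ← ha]; group
  have ht'o : orderOf t' = 2 := by
    rw [← ht]
    exact orderOf_injective (MulAut.conj g).toMonoidHom (MulAut.conj g).injective t
  have hs'o : orderOf s' = 2 := by
    rw [hs'', ← ht]
    exact orderOf_injective (MulAut.conj (g * a)).toMonoidHom (MulAut.conj (g * a)).injective t
  have hc' : s' * t' = t' * s' := by
    rw [hs', ht']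
    calc g * s * g⁻¹ * (g * t * g⁻¹) = g * (s * t) * g⁻¹ := by group
      _ = g * (t * s) * g⁻¹ := by rw [hc]
      _ = _ := by group
  have hne' : s' ≠ t' := by
    intro h
    exact hne (mul_left_cancel (mul_right_cancel h))
  -- the group `⟨x, s', t'⟩`
  set H := closure ({x, s'} : Set G) with hH
  have hHs : Group.IsSolvable ↥H := by
    have := hcon (g * a)
    rw [← hs''] at this
    exact this
  have hxH : x ∈ H := Subgroup.subset_closure (Set.mem_insert _ _)
  have hsH : s' ∈ H := Subgroup.subset_closure (Set.mem_insert_of_mem _ rfl)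
  have hnorm : ∀ h ∈ H, t' * h * t'⁻¹ ∈ H := by
    have h1 : H ≤ H.comap (MulAut.conj t').toMonoidHom := by
      conv_lhs => rw [hH]
      rw [closure_le]
      rintro z (rfl | rfl)
      · show t' * z * t'⁻¹ ∈ H
        rw [hg]
        exact inv_mem hxH
      · show t' * s' * t'⁻¹ ∈ H
        rw [← hc', mul_inv_cancel_right]
        exact hsH
    intro h hh
    exact h1 hh
  have ht'i : t'⁻¹ = t' := by
    refine inv_eq_of_mul_eq_one_left ?_
    rw [← pow_two, ← ht'o, pow_orderOf_eq_one]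
  set M := H ⊔ zpowers t' with hM
  have hHM : H ≤ M := le_sup_left
  have htM : t' ∈ M := (le_sup_right : zpowers t' ≤ M) (mem_zpowers t')
  have hMn : M ≤ normalizer (H : Set G) := by
    refine sup_le le_normalizer ?_
    rw [zpowers_le, mem_normalizer_iff]
    intro n
    refine ⟨fun hn => hnorm n hn, fun hn => ?_⟩
    have h1 := hnorm _ hn
    rw [ht'i] at h1
    have h2 : t' * t' = 1 := by rw [← pow_two, ← ht'o, pow_orderOf_eq_one]
    have h3 : t' * (t' * n * t') * t' = n := by
      calc t' * (t' * n * t') * t' = (t' * t') * n * (t' * t') := by group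
        _ = n := by rw [h2, one_mul, mul_one]
    rwa [h3] at h1
  have hMs : Group.IsSolvable ↥M := by
    have hn : (H.subgroupOf M).Normal := by
      refine ⟨fun n hn' g' => ?_⟩
      rw [mem_subgroupOf] at hn' ⊢
      exact (mem_normalizer_iff.1 (hMn g'.2) n).1 hn'
    have h7 : Group.IsSolvable ↥(H.subgroupOf M) :=
      Group.isSolvable_of_surjective (f := (subgroupOfEquivOfLe hHM).symm.toMonoidHom)
        (subgroupOfEquivOfLe hHM).symm.surjective
    have hq : Group.IsSolvable (↥M ⧸ H.subgroupOf M) := by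
      have h8 : Function.Surjective ((QuotientGroup.mk' (H.subgroupOf M)).comp
          ((zpowers t').subgroupOf M).subtype) := by
        intro q
        obtain ⟨m, rfl⟩ := QuotientGroup.mk'_surjective _ q
        have hm : (m : G) ∈ zpowers t' ⊔ H := by rw [sup_comm]; exact m.2
        obtain ⟨b, hb, h, hh, hbh⟩ : ∃ b ∈ zpowers t', ∃ h ∈ H, b * h = m := by
          have h9 : zpowers t' ≤ normalizer (H : Set G) := le_sup_right.trans hMn
          have h10 := Subgroup.mem_sup_of_normal_right (s := (zpowers t').subgroupOf M) (t := H.subgroupOf M)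
            (x := m)
          have h11 : m ∈ (zpowers t').subgroupOf M ⊔ H.subgroupOf M := by
            have h12 : ((zpowers t').subgroupOf M ⊔ H.subgroupOf M).map M.subtype = zpowers t' ⊔ H := by
              rw [Subgroup.map_sup, Subgroup.subgroupOf_map_subtype, Subgroup.subgroupOf_map_subtype,
                inf_eq_left.2 le_sup_right, inf_eq_left.2 hHM]
            have h13 : (m : G) ∈ ((zpowers t').subgroupOf M ⊔ H.subgroupOf M).map M.subtype := by rw [h12]; exact hm
            obtain ⟨m', hm', hmm⟩ := h13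
            have : m' = m := Subtype.ext hmm
            rwa [← this]
          obtain ⟨b, hb, h, hh, hbh⟩ := h10.1 h11
          exact ⟨b, hb, h, hh, congrArg Subtype.val hbh⟩
        refine ⟨⟨⟨b, (le_sup_right : zpowers t' ≤ M) hb⟩, hb⟩, ?_⟩
        show QuotientGroup.mk' (H.subgroupOf M) (⟨b, _⟩ : M) = QuotientGroup.mk' (H.subgroupOf M) m
        rw [QuotientGroup.mk'_eq_mk']
        exact ⟨⟨h, hHM hh⟩, hh, Subtype.ext hbh⟩
      have h9 : Group.IsSolvable ↥((zpowers t').subgroupOf M) := by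
        apply Group.isSolvable_of_comm
        rintro ⟨⟨a, ha1⟩, ha2⟩ ⟨⟨b, hb1⟩, hb2⟩
        apply Subtype.ext
        apply Subtype.ext
        show a * b = b * a
        obtain ⟨i, rfl⟩ := mem_zpowers_iff.1 (show a ∈ zpowers t' from ha2)
        obtain ⟨j, rfl⟩ := mem_zpowers_iff.1 (show b ∈ zpowers t' from hb2)
        rw [← zpow_add, ← zpow_add, add_comm]
      exact Group.isSolvable_of_surjective h8
    exact (Group.isSolvable_iff_subgroup_quotient (H.subgroupOf M)).2 ⟨h7, hq⟩
  exact no_four (G := ↥M) (hC.of_injective M.subtype M.subtype_injective)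
    (Lib.PSolvable.IsPSolvable_of_solvable p) hp2 (x := ⟨x, hHM hxH⟩) (by rw [Subgroup.orderOf_mk]; exact hx)
    (hN.sub M (hHM hxH)) (s := ⟨s', hHM hsH⟩) (t := ⟨t', htM⟩) (by rw [Subgroup.orderOf_mk]; exact hs'o)
    (by rw [Subgroup.orderOf_mk]; exact ht'o) (fun h => hne' (congrArg Subtype.val h)) (Subtype.ext hc')

end Cfsg.Agent.H635.Inv
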